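import Cfsg.Agent.H609.Inv.MEleven
import Cfsg.Agent.H988.Car.Mov

/-!
# S3852, the Monster, `p = 11` (helper186)

All elements of order 11 of the model are moved.  `x`, `y` generate a Sylow 11-subgroup `P` (order `11²`), `c` maps
`x` to `x³` and fixes `y`, `k ∈ N(P)` maps `y` into `⟨x⟩`: `n = c (k c k⁻¹)` has the eigenvalues 3, 3 on `P`; its order on
`P` is prime to 11, so it is the scalar 3.
-/

set_option autoImplicit false
set_option maxRecDepth 100000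

namespace Cfsg.Agent.H186.MonC

open Subgroup Cfsg Cfsg.Agent.H497.Stein

universe u

section gen

variable {G : Type u} [Group G]

/-- a power of `y` lies in `H` -/
theorem mem_of_zpow {p : ℕ} (hp : p.Prime) {y : G} (hy : y ^ p = 1) {H : Subgroup G} {i : ℤ} (hi : ¬ (p : ℤ) ∣ i)
    (h : y ^ i ∈ H) : y ∈ H := by
  have hp' : Prime (p : ℤ) := Nat.prime_iff_prime_int.1 hp
  obtain ⟨a, b, hab⟩ := ((hp'.coprime_iff_not_dvd).2 hi).symm
  have e3 : y ^ (a * i + b * p) = y := by rw [hab, zpow_one]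
  have e4 : y ^ (p : ℤ) = 1 := by rw [zpow_natCast, hy]
  rw [zpow_add, mul_comm b, zpow_mul y p b, e4, one_zpow, mul_one, mul_comm, zpow_mul] at e3
  rw [← e3]
  exact zpow_mem h a

theorem mem_norm [Finite G] {P : Subgroup G} {g : G} (h : ∀ u ∈ P, g * u * g⁻¹ ∈ P) :
    g ∈ normalizer (P : Set G) := by
  have h1 : P.map (MulAut.conj g).toMonoidHom = P := by
    refine Subgroup.eq_of_le_of_card_ge ?_ ?_
    · rintro _ ⟨u, hu, rfl⟩
      exact h u hu
    · rw [Subgroup.card_map_of_injective (MulAut.conj g).injective]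
  rw [mem_normalizer_iff]
  intro u
  refine ⟨h u, fun hu => ?_⟩
  have h2 : g * u * g⁻¹ ∈ P.map (MulAut.conj g).toMonoidHom := by rw [h1]; exact hu
  obtain ⟨v, hv, e⟩ := h2
  have e' : g * v * g⁻¹ = g * u * g⁻¹ := e
  rw [← mul_left_cancel (mul_right_cancel e')]
  exact hv

/-- a group of order `p²` is generated by two elements -/
theorem exists_mul [Finite G] {p : ℕ} (hp : p.Prime) {P : Subgroup G} (hP : Nat.card ↥P = p ^ 2) {x y : G} (hx : x ∈ P)
    (hy : y ∈ P) (hxo : orderOf x = p) (hyo : orderOf y = p) (hxy : x * y = y * x) (hyx : y ∉ zpowers x) :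
    ∀ u ∈ P, ∃ a b : ℤ, u = x ^ a * y ^ b := by
  let f : Fin p × Fin p → ↥P := fun q => ⟨x ^ (q.1 : ℕ) * y ^ (q.2 : ℕ), mul_mem (pow_mem hx _) (pow_mem hy _)⟩
  have hf : Function.Injective f := by
    rintro ⟨a, b⟩ ⟨a', b'⟩ h
    have h1 : x ^ (a : ℕ) * y ^ (b : ℕ) = x ^ (a' : ℕ) * y ^ (b' : ℕ) := congrArg Subtype.val h
    have h2 : y ^ ((b : ℤ) - b') = x ^ ((a' : ℤ) - a) := by
      rw [zpow_sub, zpow_sub, zpow_natCast, zpow_natCast, zpow_natCast, zpow_natCast]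
      have hc : Commute (x ^ (a : ℕ)) (x ^ (a' : ℕ)) := (Commute.refl x).pow_pow _ _
      calc y ^ (b : ℕ) * (y ^ (b' : ℕ))⁻¹ = (x ^ (a : ℕ))⁻¹ * (x ^ (a : ℕ) * y ^ (b : ℕ)) * (y ^ (b' : ℕ))⁻¹ := by group
        _ = (x ^ (a : ℕ))⁻¹ * (x ^ (a' : ℕ) * y ^ (b' : ℕ)) * (y ^ (b' : ℕ))⁻¹ := by rw [h1]
        _ = (x ^ (a : ℕ))⁻¹ * x ^ (a' : ℕ) := by group
        _ = x ^ (a' : ℕ) * (x ^ (a : ℕ))⁻¹ := (hc.inv_left).eq
    have hb : (b : ℕ) = b' := by
      by_contra hne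
      refine hyx (mem_of_zpow hp (by rw [← hyo, pow_orderOf_eq_one]) (i := (b : ℤ) - b') ?_
        (by rw [h2]; exact zpow_mem_zpowers x _))
      intro hd
      have h3 := Int.eq_zero_of_abs_lt_dvd hd (by
        rw [abs_lt]
        have := b.2
        have := b'.2
        constructor <;> omega)
      omega
    have ha : (a : ℕ) = a' := by
      have h3 : x ^ (a : ℕ) = x ^ (a' : ℕ) := by
        rw [hb] at h1
        exact mul_right_cancel h1
      exact pow_injOn_Iio_orderOf (by rw [hxo]; exact a.2) (by rw [hxo]; exact a'.2) h3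
    exact Prod.ext (Fin.ext ha) (Fin.ext hb)
  have hs : Function.Surjective f := by
    have hpos := hp.pos
    have := (Nat.bijective_iff_injective_and_card f).2 ⟨hf, by
      rw [hP, Nat.card_prod, Nat.card_eq_fintype_card, Fintype.card_fin, pow_two]⟩
    exact this.2
  intro u hu
  obtain ⟨q, hq⟩ := hs ⟨u, hu⟩
  refine ⟨(q.1 : ℕ), (q.2 : ℕ), ?_⟩
  rw [zpow_natCast, zpow_natCast]
  exact (congrArg Subtype.val hq).symm

/-- an element of `N(P)` of `p`-power order modulo `C(P)` centralises `P` -/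
theorem cent_of_pow [Finite G] {p : ℕ} [Fact p.Prime] (P : Sylow p G)
    (hab : ∀ a ∈ (P : Subgroup G), ∀ b ∈ (P : Subgroup G), a * b = b * a) {m : G}
    (hm : m ∈ normalizer ((P : Subgroup G) : Set G)) (h : ∀ u ∈ (P : Subgroup G), m ^ p * u * (m ^ p)⁻¹ = u) :
    ∀ u ∈ (P : Subgroup G), m * u * m⁻¹ = u := by
  have h1 := H988.Car.not_dvd_orderOf_conj P hab ⟨m, hm⟩
  have h2 : (normalizerMonoidHom (P : Subgroup G) ⟨m, hm⟩) ^ p = 1 := by
    rw [← map_pow]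
    ext v
    exact h v v.2
  have h3 := orderOf_dvd_of_pow_eq_one h2
  rcases (Nat.dvd_prime Fact.out).1 h3 with h4 | h4
  · intro u hu
    have h5 := DFunLike.congr_fun (orderOf_eq_one_iff.1 h4) ⟨u, hu⟩
    exact congrArg Subtype.val h5
  · exact absurd (by rw [h4]) h1

/-- **scalars** -/
theorem scalar [Finite G] {p : ℕ} [hp : Fact p.Prime] (P : Sylow p G)
    (hab : ∀ a ∈ (P : Subgroup G), ∀ b ∈ (P : Subgroup G), a * b = b * a)
    (hexp : ∀ a ∈ (P : Subgroup G), a ^ p = 1) {x n : G} (hx : x ∈ (P : Subgroup G))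
    (hn : n ∈ normalizer ((P : Subgroup G) : Set G)) {j : ℕ} (hj : ¬ p ∣ j) (hnx : n * x * n⁻¹ = x ^ j)
    (hu : ∀ u ∈ (P : Subgroup G), ∃ a : ℤ, n * u * n⁻¹ = u ^ j * x ^ a) :
    ∀ u ∈ (P : Subgroup G), n * u * n⁻¹ = u ^ j := by
  have hp' : Prime (p : ℤ) := Nat.prime_iff_prime_int.1 hp.out
  have hxz : ∀ {i : ℤ}, (p : ℤ) ∣ i → ∀ {u : G}, u ∈ (P : Subgroup G) → u ^ i = 1 := by
    rintro _ ⟨i, rfl⟩ u hu
    rw [zpow_mul, zpow_natCast, hexp u hu, one_zpow]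
  -- powers of `n`
  have hpow : ∀ (u : G), u ∈ (P : Subgroup G) → ∀ a : ℤ, n * u * n⁻¹ = u ^ j * x ^ a → ∀ k : ℕ,
      n ^ k * u * (n ^ k)⁻¹ = u ^ (j ^ k) * x ^ ((k : ℤ) * j ^ (k - 1) * a) := by
    intro u hu a hua k
    induction k with
    | zero => simp
    | succ k ih =>
      have e1 : n ^ (k + 1) * u * (n ^ (k + 1))⁻¹ = n * (n ^ k * u * (n ^ k)⁻¹) * n⁻¹ := by rw [pow_succ']; group
      rw [e1, ih]
      have hc : Commute (u ^ j) (x ^ a) := (show Commute u x from hab u hu x hx).pow_left j |>.zpow_right a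
      have e2 : n * (u ^ j ^ k * x ^ ((k : ℤ) * j ^ (k - 1) * a)) * n⁻¹ =
          (n * u * n⁻¹) ^ (j ^ k) * (n * x * n⁻¹) ^ ((k : ℤ) * j ^ (k - 1) * a) := by
        rw [conj_pow, conj_zpow]; group
      rw [e2, hua, hnx, hc.mul_pow, ← pow_mul, mul_assoc, ← zpow_natCast x j, ← zpow_mul, ← zpow_natCast (x ^ a),
        ← zpow_mul, ← zpow_add, ← pow_succ']
      congr 2
      rcases k with _ | k
      · simp
      · simp only [Nat.add_sub_cancel]
        push_cast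
        ring
  intro u huP
  obtain ⟨a, ha⟩ := hu u huP
  have hp1 : 1 ≤ p := hp.out.one_lt.le
  -- `j ^ (p - 1) = 1`
  have hj1 : ((p : ℕ) : ℤ) ∣ (j : ℤ) ^ (p - 1) - 1 := by
    have h1 := ZMod.pow_card_sub_one_eq_one (p := p) (a := (j : ZMod p)) (by
      rwa [Ne, ZMod.natCast_eq_zero_iff])
    rw [← ZMod.intCast_zmod_eq_zero_iff_dvd] <;> push_cast
    · rw [h1, sub_self]
  have hjp : ∀ v ∈ (P : Subgroup G), v ^ (j ^ (p - 1)) = v := by
    intro v hv
    have h1 := hxz hj1 hv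
    rw [zpow_sub, zpow_one, mul_inv_eq_one] at h1
    rw [← zpow_natCast]
    push_cast
    exact h1
  -- `m = n ^ (p - 1)` centralises `P`
  have hm : ∀ v ∈ (P : Subgroup G), n ^ (p - 1) * v * (n ^ (p - 1))⁻¹ = v := by
    refine cent_of_pow P hab (pow_mem hn _) fun v hv => ?_
    obtain ⟨b, hb⟩ := hu v hv
    have h1 := hpow v hv b hb (p - 1)
    rw [hjp v hv] at h1
    have h2 : n ^ (p - 1) * x * (n ^ (p - 1))⁻¹ = x := by
      have h3 := hpow x hx 0 (by rw [zpow_zero, mul_one, hnx]) (p - 1)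
      rw [hjp x hx, mul_zero, zpow_zero, mul_one] at h3
      exact h3
    have h4 : ∀ k : ℕ, (n ^ (p - 1)) ^ k * v * ((n ^ (p - 1)) ^ k)⁻¹ =
        v * x ^ ((k : ℤ) * (((p - 1 : ℕ) : ℤ) * j ^ (p - 1 - 1) * b)) := by
      intro k
      induction k with
      | zero => simp
      | succ k ih =>
        have e1 : (n ^ (p - 1)) ^ (k + 1) * v * ((n ^ (p - 1)) ^ (k + 1))⁻¹ =
            n ^ (p - 1) * ((n ^ (p - 1)) ^ k * v * ((n ^ (p - 1)) ^ k)⁻¹) * (n ^ (p - 1))⁻¹ := by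
          rw [pow_succ']; group
        rw [e1, ih]
        have e2 : ∀ i : ℤ, n ^ (p - 1) * (v * x ^ i) * (n ^ (p - 1))⁻¹ =
            (n ^ (p - 1) * v * (n ^ (p - 1))⁻¹) * (n ^ (p - 1) * x * (n ^ (p - 1))⁻¹) ^ i := by
          intro i
          rw [conj_zpow]; group
        rw [e2, h1, h2, mul_assoc, ← zpow_add]
        congr 2
        push_cast
        ring
    rw [h4 p, hxz (dvd_mul_right _ _) hx, mul_one]
  have h1 := hpow u huP a ha (p - 1)
  rw [hm u huP, hjp u huP] at h1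
  have h2 : x ^ (((p - 1 : ℕ) : ℤ) * j ^ (p - 1 - 1) * a) = 1 := (mul_eq_left.1 h1.symm)
  have h3 : x ^ a = 1 := by
    have h4 : (x ^ a) ^ (((p - 1 : ℕ) : ℤ) * j ^ (p - 1 - 1)) ∈ (⊥ : Subgroup G) := by
      rw [mem_bot, ← zpow_mul, mul_comm]
      exact h2
    have h5 : (x ^ a) ^ p = 1 := by
      rw [← zpow_natCast, ← zpow_mul]
      exact hxz (dvd_mul_left _ _) hx
    refine mem_bot.1 (mem_of_zpow hp.out h5 ?_ h4)
    intro h6
    rcases hp'.dvd_or_dvd h6 with h7 | h7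
    · have h8 := Int.natCast_dvd_natCast.1 h7
      have := Nat.le_of_dvd (by have := hp.out.two_le; omega) h8
      omega
    · have h8 := hp'.dvd_of_dvd_pow h7
      exact hj (Int.natCast_dvd_natCast.1 h8)
  rw [ha, h3, mul_one]

end gen

open Cfsg.Agent.LThreeMB (fr XX Zx)
open Cfsg.Agent.H800.ME.Final Cfsg.Agent.H800.ME.CoFacts
open Cfsg.Agent.BpSpor.MBigModel (MG zz card_M chart orderOf_zz)
open Cfsg.Agent.MFive (pow_eq_one)

/-- `x`, `y`, `k`, `c` (helper800, helper609) -/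
theorem exists_data : ∃ x y k c : MG, orderOf x = 11 ∧ orderOf y = 11 ∧ x * y = y * x ∧ y ∉ zpowers x ∧
    k * y * k⁻¹ ∈ zpowers x ∧ c * x * c⁻¹ = x ^ 3 ∧ c * y * c⁻¹ = y := by
  have : Fact (Nat.Prime 11) := ⟨prime11⟩
  obtain ⟨x, hx, hpx⟩ := exists_x
  have hxo : orderOf (x : MG) = 11 := by rw [Subgroup.orderOf_coe, hx]
  have hd := dvd_XX hxo
  obtain ⟨c, hc, hcf, hc5⟩ := exists_f chart hx hpx
  obtain ⟨y, hy, hxy, hyx, hcy⟩ := exists_y chart hx hpx hd hc hc5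
  have hN : Spor.IsoHN (XX (c : MG)) := MFiveHN.Closed.hnEight chart c hc5 (by rw [hcf]; exact fr_f1)
  obtain ⟨v, hv, hyv⟩ := exists_inv (by rw [Subgroup.orderOf_coe, hc5]) hy hcy hN
  obtain ⟨g, hg⟩ := BpSpor.MBigEleven.comm_z hy hv hyv
  have h1 : (g⁻¹ * y * g) * zz = zz * (g⁻¹ * y * g) := by
    calc (g⁻¹ * y * g) * zz = g⁻¹ * (y * (g * zz * g⁻¹)) * g := by group
      _ = g⁻¹ * ((g * zz * g⁻¹) * y) * g := by rw [hg]
      _ = zz * (g⁻¹ * y * g) := by group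
  let y' : centralizer ({zz} : Set MG) := ⟨g⁻¹ * y * g, mem_centralizer_singleton_iff.2 h1⟩
  have hy' : orderOf y' = 11 := by
    rw [← Subgroup.orderOf_coe, ← hy]
    show orderOf (g⁻¹ * y * g) = orderOf y
    have e : g⁻¹ * y * g = MulAut.conj g⁻¹ y := by rw [MulAut.conj_apply, inv_inv]
    rw [e, MulEquiv.orderOf_eq]
  obtain ⟨k, hk⟩ := CpAutON.Gen.conj_into (p := 11) (BpSpor.MBigModel.not_sq (Or.inl rfl) orderOf_zz) hy' hx
  obtain ⟨i, hi⟩ := mem_zpowers_iff.1 hk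
  refine ⟨x, y, (k : MG) * g⁻¹, c, hxo, hy, hxy, hyx, mem_zpowers_iff.2 ⟨i, ?_⟩, congrArg Subtype.val hc, ?_⟩
  · have h2 := congrArg Subtype.val hi
    have h3 : (k : MG) * g⁻¹ * y * ((k : MG) * g⁻¹)⁻¹ = (k : MG) * (g⁻¹ * y * g) * (k : MG)⁻¹ := by group
    rw [h3]
    exact h2
  · rw [hcy, mul_inv_cancel_right]

/-- **the elements of order 11 of the Monster** -/
theorem moved_eleven : Moved 11 MG := by
  have hp : Fact (Nat.Prime 11) := ⟨prime11⟩
  obtain ⟨x, y, k, c, hx, hy, hxy, hyx, hk, hcx, hcy⟩ := exists_data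
  have hx11 : x ^ 11 = 1 := by rw [← hx, pow_orderOf_eq_one]
  have hy11 : y ^ 11 = 1 := by rw [← hy, pow_orderOf_eq_one]
  have hcomm : Commute x y := hxy
  -- the Sylow subgroup
  have hE : ∀ a ∈ closure ({x, y} : Set MG), ∀ b ∈ closure ({x, y} : Set MG), a * b = b * a := by
    have h1 : IsMulCommutative (closure ({x, y} : Set MG)) := isMulCommutative_closure (by
      rintro a (rfl | rfl) b (rfl | rfl)
      · rfl
      · exact hxy
      · exact hxy.symm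
      · rfl)
    intro a ha b hb
    exact congrArg Subtype.val (h1.is_comm.comm ⟨a, ha⟩ ⟨b, hb⟩)
  have hEp : IsPGroup 11 ↥(closure ({x, y} : Set MG)) := by
    intro a
    refine ⟨1, Subtype.ext ?_⟩
    show (a : MG) ^ 11 ^ 1 = 1
    rw [pow_one]
    have h1 : ∀ b ∈ closure ({x, y} : Set MG), b ∈ closure ({x, y} : Set MG) ∧ b ^ 11 = 1 := by
      intro b hb
      refine ⟨hb, ?_⟩
      induction hb using closure_induction with
      | mem b hb =>
        rcases hb with rfl | rfl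
        · exact hx11
        · exact hy11
      | one => exact one_pow _
      | mul b d hb hd h1 h2 => rw [(show Commute b d from hE b hb d hd).mul_pow, h1, h2, one_mul]
      | inv b hb h1 => rw [inv_pow, h1, inv_one]
    exact (h1 a a.2).2
  obtain ⟨P, hP⟩ := hEp.exists_le_sylow
  have hxP : x ∈ (P : Subgroup MG) := hP (subset_closure (Or.inl rfl))
  have hyP : y ∈ (P : Subgroup MG) := hP (subset_closure (Or.inr rfl))
  have hPc : Nat.card (P : Subgroup MG) = 11 ^ 2 := by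
    obtain ⟨k, hk⟩ := IsPGroup.iff_card.1 P.isPGroup'
    have h1 : ¬ 3 ≤ k := fun h3 => not_cube ((pow_dvd_pow 11 h3).trans (hk ▸ Subgroup.card_subgroup_dvd_card _))
    have h2 : 2 ≤ k := by
      have h3 : 11 ^ 2 ∣ Nat.card (P : Subgroup MG) := by
        rw [P.card_eq_multiplicity]
        refine pow_dvd_pow 11 ((prime11.pow_dvd_iff_le_factorization Nat.card_pos.ne').1 ?_)
        rw [card_M]
        norm_num
      rw [hk] at h3
      exact (Nat.pow_dvd_pow_iff_le_right (by norm_num)).1 h3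
    have h3 : k = 2 := by omega
    rw [hk, h3]
  have hgen := exists_mul prime11 hPc hxP hyP hx hy hxy hyx
  have hxpow : ∀ i j : ℤ, Commute (x ^ i) (y ^ j) := fun i j => (hcomm.zpow_left i).zpow_right j
  have hab : ∀ a ∈ (P : Subgroup MG), ∀ b ∈ (P : Subgroup MG), a * b = b * a := by
    have h1 := IsPGroup.isMulCommutative_of_card_eq_prime_sq hPc
    intro a ha b hb
    exact congrArg Subtype.val (h1.is_comm.comm (⟨a, ha⟩ : (P : Subgroup MG)) ⟨b, hb⟩)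
  have hexp : ∀ a ∈ (P : Subgroup MG), a ^ 11 = 1 := by
    intro a ha
    obtain ⟨i, j, rfl⟩ := hgen a ha
    rw [(hxpow i j).mul_pow, ← zpow_natCast, ← zpow_mul, mul_comm, zpow_mul, zpow_natCast, hx11, one_zpow, one_mul,
      ← zpow_natCast, ← zpow_mul, mul_comm, zpow_mul, zpow_natCast, hy11, one_zpow]
  -- `k` may be chosen in `N(P)`
  have hPcent : ∀ u ∈ (P : Subgroup MG), u ∈ centralizer ((P : Subgroup MG) : Set MG) := fun u hu =>
    mem_centralizer_iff.2 fun v hv => hab v hv u hu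
  obtain ⟨i, hi⟩ := mem_zpowers_iff.1 hk
  obtain ⟨m, hm, hmy⟩ := Sylow.conj_eq_normalizer_conj_of_mem_centralizer P y k⁻¹ (hPcent y hyP) (hPcent _ (by
    rw [inv_inv, ← hi]
    exact zpow_mem hxP i))
  rw [inv_inv] at hmy
  -- `l = m⁻¹`
  obtain ⟨l, rfl⟩ : ∃ l, m = l⁻¹ := ⟨m⁻¹, (inv_inv m).symm⟩
  rw [inv_inv] at hmy
  have hl : l ∈ normalizer ((P : Subgroup MG) : Set MG) := by
    have := inv_mem hm
    rwa [inv_inv] at this
  have hly : l * y * l⁻¹ = x ^ i := by rw [← hmy, hi]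
  have hlP : ∀ u ∈ (P : Subgroup MG), l * u * l⁻¹ ∈ (P : Subgroup MG) := fun u hu => (mem_normalizer_iff.1 hl u).1 hu
  -- `v = l x l⁻¹`
  obtain ⟨v, hv⟩ : ∃ v, v = l * x * l⁻¹ := ⟨_, rfl⟩
  have hvP : v ∈ (P : Subgroup MG) := hv ▸ hlP x hxP
  have hvo : orderOf v = 11 := by rw [hv, ← MulAut.conj_apply, MulEquiv.orderOf_eq, hx]
  have hxi : ¬ (11 : ℤ) ∣ i := by
    rintro ⟨j, rfl⟩
    have e : (x : MG) ^ (11 : ℤ) = 1 := by rw [show (11 : ℤ) = ((11 : ℕ) : ℤ) from rfl, zpow_natCast, hx11]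
    rw [zpow_mul, e, one_zpow, mul_inv_eq_one] at hly
    rw [show y = 1 from mul_left_cancel (hly.trans (mul_one l).symm), orderOf_one] at hy
    norm_num at hy
  have hvx : v ∉ zpowers x := by
    intro h
    -- `x ∈ ⟨x ^ i⟩`
    have h1 : x ∈ zpowers (x ^ i) := mem_of_zpow prime11 hx11 hxi (mem_zpowers _)
    have h2 : v ∈ zpowers (x ^ i) := (zpowers_le.2 h1) h
    obtain ⟨j, hj⟩ := mem_zpowers_iff.1 h2
    rw [← hly, conj_zpow, hv] at hj
    have h3 : y ^ j = x := mul_left_cancel (mul_right_cancel hj)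
    apply hyx
    refine mem_of_zpow prime11 hy11 (i := j) ?_ (by rw [h3]; exact mem_zpowers x)
    rintro ⟨j', rfl⟩
    rw [zpow_mul, zpow_natCast, hy11, one_zpow] at h3
    rw [← h3, orderOf_one] at hx
    norm_num at hx
  have hgen' := exists_mul prime11 hPc hxP hvP hx hvo (hab x hxP v hvP) hvx
  -- `c` normalises `P`
  have hcg : ∀ a b : ℤ, c * (x ^ a * y ^ b) * c⁻¹ = x ^ (3 * a) * y ^ b := by
    intro a b
    calc c * (x ^ a * y ^ b) * c⁻¹ = (c * x * c⁻¹) ^ a * (c * y * c⁻¹) ^ b := by rw [conj_zpow, conj_zpow]; group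
      _ = _ := by rw [hcx, hcy, ← zpow_natCast, ← zpow_mul]; rfl
  have hcP : ∀ u ∈ (P : Subgroup MG), c * u * c⁻¹ ∈ (P : Subgroup MG) := by
    intro u hu
    obtain ⟨a, b, rfl⟩ := hgen u hu
    rw [hcg]
    exact mul_mem (zpow_mem hxP _) (zpow_mem hyP _)
  have hcN : c ∈ normalizer ((P : Subgroup MG) : Set MG) := mem_norm hcP
  -- `w = l c l⁻¹`
  obtain ⟨w, hw⟩ : ∃ w, w = l * c * l⁻¹ := ⟨_, rfl⟩
  have hwN : w ∈ normalizer ((P : Subgroup MG) : Set MG) := hw ▸ mul_mem (mul_mem hl hcN) (inv_mem hl)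
  have hwv : w * v * w⁻¹ = v ^ 3 := by
    calc w * v * w⁻¹ = l * (c * x * c⁻¹) * l⁻¹ := by rw [hw, hv]; group
      _ = (l * x * l⁻¹) ^ 3 := by rw [hcx, conj_pow]
      _ = v ^ 3 := by rw [hv]
  have hwx : w * x * w⁻¹ = x := by
    have h1 : x ∈ zpowers (x ^ i) := mem_of_zpow prime11 hx11 hxi (mem_zpowers _)
    obtain ⟨j, hj⟩ := mem_zpowers_iff.1 h1
    have h2 : w * x ^ i * w⁻¹ = x ^ i := by
      calc w * x ^ i * w⁻¹ = l * (c * y * c⁻¹) * l⁻¹ := by rw [hw, ← hly]; group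
        _ = x ^ i := by rw [hcy, hly]
    calc w * x * w⁻¹ = w * (x ^ i) ^ j * w⁻¹ := by rw [hj]
      _ = (w * x ^ i * w⁻¹) ^ j := by rw [conj_zpow]
      _ = x := by rw [h2, hj]
  -- `n = c w`
  have hnN : c * w ∈ normalizer ((P : Subgroup MG) : Set MG) := mul_mem hcN hwN
  have hnx : (c * w) * x * (c * w)⁻¹ = x ^ 3 := by
    calc (c * w) * x * (c * w)⁻¹ = c * (w * x * w⁻¹) * c⁻¹ := by group
      _ = x ^ 3 := by rw [hwx, hcx]
  obtain ⟨α, β, hvab⟩ := hgen v hvP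
  have hcv : c * v * c⁻¹ = v * x ^ (2 * α) := by
    rw [hvab, hcg, mul_assoc, ← (hxpow (2 * α) β).eq, ← mul_assoc, ← zpow_add]
    congr 2
    ring
  have hvx' : ∀ a b : ℤ, Commute (v ^ a) (x ^ b) := fun a b =>
    ((show Commute v x from hab v hvP x hxP).zpow_left a).zpow_right b
  have hsc := scalar P hab hexp hxP hnN (j := 3) (by norm_num) hnx (by
    intro u hu
    obtain ⟨a, b, rfl⟩ := hgen' u hu
    refine ⟨2 * α * (3 * b), ?_⟩
    have e1 : (c * w) * (x ^ a * v ^ b) * (c * w)⁻¹ = ((c * w) * x * (c * w)⁻¹) ^ a * (c * (w * v * w⁻¹) * c⁻¹) ^ b := by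
      rw [conj_zpow, conj_zpow, conj_zpow]; group
    have e2 : c * v ^ 3 * c⁻¹ = (v * x ^ (2 * α)) ^ 3 := by rw [← conj_pow, hcv]
    rw [e1, hnx, hwv, e2, ← zpow_natCast, ← zpow_natCast, ← zpow_mul, ← zpow_mul]
    have hc1 : Commute v (x ^ (2 * α)) := by simpa using hvx' 1 (2 * α)
    rw [hc1.mul_zpow, ← zpow_mul x, ← zpow_natCast (x ^ a * v ^ b), (hvx' b a).symm.mul_zpow, ← zpow_mul, ← zpow_mul]
    rw [← mul_assoc]
    congr 1
    congr 1
    · congr 1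
      ring
    · congr 1
      ring)
  -- conclusion
  intro u hu
  have hup : IsPGroup 11 (zpowers u) := IsPGroup.of_card (n := 1) (by rw [Nat.card_zpowers, hu, pow_one])
  obtain ⟨Q, hQ⟩ := hup.exists_le_sylow
  obtain ⟨g, hg⟩ := MulAction.exists_smul_eq MG Q P
  have hguP : g * u * g⁻¹ ∈ (P : Subgroup MG) := by
    rw [← hg]
    exact ⟨u, hQ (mem_zpowers u), rfl⟩
  have hgo : orderOf (g * u * g⁻¹) = 11 := by rw [← MulAut.conj_apply, MulEquiv.orderOf_eq, hu]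
  refine MovedAt.of_conj (k := g) ⟨c * w, 3, hsc _ hguP, ?_⟩
  intro h1
  have h2 : (g * u * g⁻¹) ^ 2 = 1 := by
    have h3 : (g * u * g⁻¹) ^ 2 * (g * u * g⁻¹) = 1 * (g * u * g⁻¹) := by rw [← pow_succ, one_mul]; exact h1
    exact mul_right_cancel h3
  have h3 := orderOf_dvd_of_pow_eq_one h2
  rw [hgo] at h3
  norm_num at h3

end Cfsg.Agent.H186.MonC
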