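import Cfsg.Agent.H979.Ccp.MThirteen
import Cfsg.Agent.H609.Inv.MThirC

/-!
# S3852, the Monster, `p = 13` (helper186)

All elements of order 13 of the model are moved: the Sylow 13-subgroups are not abelian (helper609), helper979's
`moved_thirteen`.
-/

set_option autoImplicit false
set_option maxRecDepth 100000

namespace Cfsg.Agent.H186.MonC

open Subgroup Cfsg Cfsg.Agent.H131.T5M13 Cfsg.Agent.H497.Stein
open Cfsg.Agent.MonsterX
open Cfsg.Agent.H609.Inv.Thirteen (exists_RW)

/-- **the elements of order 13 of the Monster** -/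
theorem moved_thirteen : Moved 13 ↥InstData.M.G := by
  have hfin : Finite ↥InstData.M.G := Cfsg.Agent.MThirteen.Row.finite
  have hp : Fact (Nat.Prime 13) := ⟨by norm_num⟩
  refine Cfsg.Agent.H979.Ccp.MThirteen.moved_thirteen fun S => ?_
  by_contra hcon
  push Not at hcon
  obtain ⟨x, z, t, Q, h⟩ := Cfsg.Agent.H131.T5M13.model_D
  obtain ⟨R, W, hr⟩ := exists_RW h
  refine Cfsg.Agent.H609.Inv.Thirteen.Ab.false h ⟨hr, ?_⟩
  obtain ⟨R', hR'⟩ := (IsPGroup.of_card hr.card).exists_le_sylow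
  obtain ⟨g, hg⟩ := MulAction.exists_smul_eq ↥InstData.M.G R' S
  have hmem : ∀ a ∈ R, g * a * g⁻¹ ∈ (S : Subgroup ↥InstData.M.G) := by
    intro a ha
    rw [← hg]
    exact ⟨a, hR' ha, rfl⟩
  intro a ha b hb
  have h1 := hcon _ (hmem a ha) _ (hmem b hb)
  have h2 : g * (a * b) * g⁻¹ = g * (b * a) * g⁻¹ := by
    calc g * (a * b) * g⁻¹ = g * a * g⁻¹ * (g * b * g⁻¹) := by group
      _ = g * b * g⁻¹ * (g * a * g⁻¹) := h1
      _ = _ := by group
  exact mul_left_cancel (mul_right_cancel h2)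

end Cfsg.Agent.H186.MonC
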